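import Cfsg.Agent.Recognition.G2Four.Field
import Cfsg.Prelude.Def_Chevalley
import Cfsg.Prelude.Def_ChevG2

/-!
The six-dimensional natural representation of the group of type G₂ over the field with four elements:
alternating forms carrying it to the adjoint representation.
-/

set_option autoImplicit false

namespace Cfsg.Agent.Recognition.G2Four

open Cfsg.Lie Matrix

/-- The index set of the adjoint representation. -/
abbrev I14 := chevG2.Idx

/-- The coordinate pairs of the forms: the zero weight ones, then one for each root. -/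
def formPairs : I14 → List (Fin 6 × Fin 6)
  | Sum.inl i => if i.val = 0 then [(1, 4), (2, 3)] else [(0, 5), (1, 4)]
  | Sum.inr u =>
    [[(0, 1)], [(0, 2)], [(1, 2)], [(0, 3)], [(0, 4)], [(1, 3)], [(2, 4)], [(1, 5)], [(2, 5)], [(3, 4)],
      [(3, 5)], [(4, 5)]].getD u.val []

/-- The pairs of the invariant symplectic form. -/
def sympPairs : List (Fin 6 × Fin 6) := [(0, 5), (1, 4), (2, 3)]

/-- The alternating form attached to a list of pairs, as an entrywise function. -/
def formEntry (l : List (Fin 6 × Fin 6)) (i j : Fin 6) : Q :=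
  (l.map fun p => if (i = p.1 ∧ j = p.2) ∨ (i = p.2 ∧ j = p.1) then (1 : Q) else 0).sum

/-- The alternating form attached to a list of pairs. -/
def form (l : List (Fin 6 × Fin 6)) : Matrix (Fin 6) (Fin 6) Q := Matrix.of (formEntry l)

/-- The positions and degrees of the off-diagonal entries of the root elements. -/
def rootPos : List (List (Fin 6 × Fin 6 × ℕ)) :=
  [[(0, 4, 1), (1, 5, 1)], [(0, 3, 1), (2, 5, 1)], [(0, 5, 2), (1, 3, 1), (2, 4, 1)],
    [(0, 2, 1), (1, 4, 2), (3, 5, 1)], [(0, 1, 1), (2, 3, 2), (4, 5, 1)], [(1, 2, 1), (3, 4, 1)],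
    [(2, 1, 1), (4, 3, 1)], [(1, 0, 1), (3, 2, 2), (5, 4, 1)], [(2, 0, 1), (4, 1, 2), (5, 3, 1)],
    [(3, 1, 1), (4, 2, 1), (5, 0, 2)], [(3, 0, 1), (5, 2, 1)], [(4, 0, 1), (5, 1, 1)]]

/-- The root element on the natural module. -/
def y (r : Fin chevG2.nroots) (t : Q) : Matrix (Fin 6) (Fin 6) Q :=
  Matrix.of fun i j => if i = j then 1 else
    ((rootPos.getD r.val []).map fun p =>
      if i = p.1 ∧ j = p.2.1 then (if p.2.2 = 1 then t else t * t) else 0).sum

/-- The adjoint root element. -/
def x (r : Fin chevG2.nroots) (t : Q) : Matrix I14 I14 Q := chevG2.xMat Q r t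

/-- The transformation rule of the forms, checked entry by entry through minors. -/
def minorSum (A : Matrix (Fin 6) (Fin 6) Q) (l : List (Fin 6 × Fin 6)) (i j : Fin 6) : Q :=
  (l.map fun p => A p.1 i * A p.2 j + A p.2 i * A p.1 j).sum

theorem y_rule : ∀ r : Fin chevG2.nroots, ∀ t : Q, ∀ k : I14, ∀ i j : Fin 6,
    minorSum (y r t) (formPairs k) i j = ∑ l, x r t k l * formEntry (formPairs l) i j := by
  decide +kernel

theorem y_symp : ∀ r : Fin chevG2.nroots, ∀ t : Q, ∀ i j : Fin 6,
    minorSum (y r t) sympPairs i j = formEntry sympPairs i j := by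
  decide +kernel

theorem y_inv : ∀ r : Fin chevG2.nroots, ∀ t : Q, y r t * y r t = 1 := by decide +kernel

theorem x_inv : ∀ r : Fin chevG2.nroots, ∀ t : Q, x r t * x r t = 1 := by decide +kernel

end Cfsg.Agent.Recognition.G2Four
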