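import Mathlib

/-!
A field with four elements with constant-time operations, and its identification with an arbitrary
field of the same size.
-/

set_option autoImplicit false

namespace Cfsg.Agent.Recognition.G2Four

/-- The field with four elements. -/
inductive Q : Type
  | o | e | w | v
  deriving DecidableEq

namespace Q

instance : Fintype Q := ⟨{.o, .e, .w, .v}, fun x => by cases x <;> decide⟩

/-- Addition. -/
def add' : Q → Q → Q
  | .o, x => x
  | x, .o => x
  | .e, .e => .o
  | .e, .w => .v
  | .e, .v => .w
  | .w, .e => .v
  | .w, .w => .o
  | .w, .v => .e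
  | .v, .e => .w
  | .v, .w => .e
  | .v, .v => .o

/-- Multiplication. -/
def mul' : Q → Q → Q
  | .o, _ => .o
  | _, .o => .o
  | .e, x => x
  | x, .e => x
  | .w, .w => .v
  | .w, .v => .e
  | .v, .w => .e
  | .v, .v => .w

/-- Inversion. -/
def inv' : Q → Q
  | .o => .o
  | .e => .e
  | .w => .v
  | .v => .w

/-- The image of a natural number. -/
def ofNat' (n : ℕ) : Q := if n % 2 = 0 then .o else .e

instance : Zero Q := ⟨.o⟩

instance : Add Q := ⟨add'⟩

instance : Neg Q := ⟨id⟩

instance : CommRing Q where
  add := add'
  zero := .o
  mul := mul'
  one := .e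
  neg x := x
  add_assoc := by decide
  zero_add := by decide
  add_zero := by decide
  add_comm := by decide
  left_distrib := by decide
  right_distrib := by decide
  zero_mul := by decide
  mul_zero := by decide
  mul_assoc := by decide
  one_mul := by decide
  mul_one := by decide
  mul_comm := by decide
  neg_add_cancel := by decide
  natCast n := ofNat' n
  natCast_zero := rfl
  natCast_succ n := by
    rcases Nat.mod_two_eq_zero_or_one n with h | h <;>
      simp [ofNat', Nat.add_mod, h] <;> rfl
  intCast n := ofNat' n.natAbs
  intCast_ofNat _ := rfl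
  intCast_negSucc _ := rfl
  nsmul := nsmulRec
  zsmul := zsmulRec

instance : Field Q where
  inv := inv'
  exists_pair_ne := ⟨.o, .e, by decide⟩
  mul_inv_cancel := by decide
  inv_zero := rfl
  nnqsmul := _
  qsmul := _

theorem card_eq : Fintype.card Q = 4 := rfl

instance : CharP Q 2 := CharTwo.of_one_ne_zero_of_two_eq_zero (by decide) (by decide)

end Q

end Cfsg.Agent.Recognition.G2Four
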