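import Cfsg.Agent.Recognition.G2Four.Data

/-!
The group of compatible pairs of a natural and an adjoint matrix is isomorphic to the group of type G₂.
-/

set_option autoImplicit false

namespace Cfsg.Agent.Recognition.G2Four

open Cfsg.Lie Matrix

theorem formEntry_cons (p : Fin 6 × Fin 6) (l : List (Fin 6 × Fin 6)) :
    form (p :: l) =
      Matrix.of (fun i j => if (i = p.1 ∧ j = p.2) ∨ (i = p.2 ∧ j = p.1) then (1 : Q) else 0) + form l := by
  ext i j
  simp [form, formEntry]

theorem single_form (a b : Fin 6) (h : a ≠ b) :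
    Matrix.of (fun i j => if (i = a ∧ j = b) ∨ (i = b ∧ j = a) then (1 : Q) else 0) =
      Matrix.single a b 1 + Matrix.single b a 1 := by
  ext i j
  by_cases h1 : i = a ∧ j = b
  · obtain ⟨rfl, rfl⟩ := h1
    simp [Matrix.single, h, h.symm]
  · by_cases h2 : i = b ∧ j = a
    · obtain ⟨rfl, rfl⟩ := h2
      simp [Matrix.single, h, h.symm]
    · simp only [Matrix.of_apply, Matrix.add_apply]
      rw [if_neg (by tauto)]
      simp only [Matrix.single, Matrix.of_apply]
      rw [if_neg (fun e => h1 ⟨e.1.symm, e.2.symm⟩), if_neg (fun e => h2 ⟨e.1.symm, e.2.symm⟩), add_zero]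

theorem form_congr (A : Matrix (Fin 6) (Fin 6) Q) (l : List (Fin 6 × Fin 6))
    (hl : ∀ p ∈ l, p.1 ≠ p.2) (i j : Fin 6) : (Aᵀ * form l * A) i j = minorSum A l i j := by
  induction l with
  | nil => simp [form, formEntry, minorSum, Matrix.mul_apply]
  | cons p l ih =>
    obtain ⟨a, b⟩ := p
    rw [formEntry_cons, Matrix.mul_add, Matrix.add_mul, Matrix.add_apply,
      ih fun q hq => hl q (List.mem_cons_of_mem _ hq), single_form a b (hl (a, b) List.mem_cons_self)]
    simp [minorSum, Matrix.mul_apply, Matrix.single, ite_and, Finset.sum_mul, mul_add, add_mul,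
      Finset.sum_add_distrib]

theorem formPairs_ne : ∀ k : I14, ∀ p ∈ formPairs k, p.1 ≠ p.2 := by decide +kernel

theorem sympPairs_ne : ∀ p ∈ sympPairs, p.1 ≠ p.2 := by decide +kernel

/-- The compatible pairs. -/
def Compat (A : Matrix (Fin 6) (Fin 6) Q) (B : Matrix I14 I14 Q) : Prop :=
  (∀ k, Aᵀ * form (formPairs k) * A = ∑ l, B k l • form (formPairs l)) ∧
    Aᵀ * form sympPairs * A = form sympPairs

theorem compat_one : Compat 1 1 := by
  refine ⟨fun k => ?_, by simp⟩
  simp [Matrix.one_apply, ite_smul]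

theorem compat_mul {A A' : Matrix (Fin 6) (Fin 6) Q} {B B' : Matrix I14 I14 Q} (h : Compat A B)
    (h' : Compat A' B') : Compat (A * A') (B * B') := by
  refine ⟨fun k => ?_, ?_⟩
  · calc (A * A')ᵀ * form (formPairs k) * (A * A')
        = A'ᵀ * (Aᵀ * form (formPairs k) * A) * A' := by simp only [Matrix.transpose_mul, Matrix.mul_assoc]
      _ = ∑ l, B k l • (A'ᵀ * form (formPairs l) * A') := by
          rw [h.1 k, Matrix.mul_sum, Matrix.sum_mul]
          simp only [Matrix.mul_smul, Matrix.smul_mul]
      _ = ∑ l, ∑ m, (B k l * B' l m) • form (formPairs m) := by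
          simp only [h'.1, Finset.smul_sum, smul_smul]
      _ = ∑ m, (B * B') k m • form (formPairs m) := by
          rw [Finset.sum_comm]; simp only [Matrix.mul_apply, Finset.sum_smul]
  · calc (A * A')ᵀ * form sympPairs * (A * A')
        = A'ᵀ * (Aᵀ * form sympPairs * A) * A' := by simp only [Matrix.transpose_mul, Matrix.mul_assoc]
      _ = form sympPairs := by rw [h.2, h'.2]

theorem compat_gen (r : Fin chevG2.nroots) (t : Q) : Compat (y r t) (x r t) := by
  refine ⟨fun k => ?_, ?_⟩ <;> ext i j
  · rw [form_congr _ _ (formPairs_ne k), y_rule]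
    simp [Matrix.sum_apply, form]
  · rw [form_congr _ _ sympPairs_ne, y_symp]
    rfl

/-- The natural root element as an invertible matrix. -/
def yu (r : Fin chevG2.nroots) (t : Q) : GL (Fin 6) Q := ⟨y r t, y r t, y_inv r t, y_inv r t⟩

/-- The adjoint root element as an invertible matrix. -/
def xu (r : Fin chevG2.nroots) (t : Q) : GL I14 Q := ⟨x r t, x r t, x_inv r t, x_inv r t⟩

/-- The group generated by the pairs of root elements. -/
def G2pairs : Subgroup (GL (Fin 6) Q × GL I14 Q) :=
  Subgroup.closure (Set.range fun p : Fin chevG2.nroots × Q => (yu p.1 p.2, xu p.1 p.2))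

/-- A pair of root elements, as a member. -/
def gen (r : Fin chevG2.nroots) (t : Q) : G2pairs :=
  ⟨(yu r t, xu r t), Subgroup.subset_closure ⟨(r, t), rfl⟩⟩

theorem compat_mem {g : GL (Fin 6) Q × GL I14 Q} (hg : g ∈ G2pairs) :
    Compat (g.1 : Matrix (Fin 6) (Fin 6) Q) (g.2 : Matrix I14 I14 Q) := by
  induction hg using Subgroup.closure_induction'' with
  | mem x hx => obtain ⟨⟨r, t⟩, rfl⟩ := hx; exact compat_gen r t
  | inv_mem x hx =>
    obtain ⟨⟨r, t⟩, rfl⟩ := hx
    exact compat_gen r t
  | one => exact compat_one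
  | mul a b _ _ ha hb => exact compat_mul ha hb

/-- Every elementary alternating form is a combination of the invariant forms. -/
theorem elem_span : ∀ a b : Fin 6, a ≠ b → ∃ c₀ c₁ c₂ : Q, ∃ k : I14,
    form [(a, b)] = c₀ • form (formPairs (Sum.inl ⟨0, by decide⟩)) + c₁ • form (formPairs (Sum.inl ⟨1, by decide⟩))
      + c₂ • form sympPairs ∨ form [(a, b)] = form (formPairs k) := by
  decide +kernel

theorem eq_one_of_minors (A : Matrix (Fin 6) (Fin 6) Q)
    (h : ∀ a b i j : Fin 6, a ≠ b → minorSum A [(a, b)] i j = formEntry [(a, b)] i j) : A = 1 := by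
  have h2 : (2 : Q) = 0 := by decide
  have hoff : ∀ k i : Fin 6, k ≠ i → A k i = 0 := by
    intro k i hki
    obtain ⟨j, hji, hjk⟩ : ∃ j : Fin 6, j ≠ i ∧ j ≠ k := by revert k i; decide
    have e1 : A i i * A j j + A j i * A i j = 1 := by
      simpa [minorSum, formEntry, hji.symm, hji] using h i j i j hji.symm
    have e2 : A k i * A i j + A i i * A k j = 0 := by
      simpa [minorSum, formEntry, hki, hki.symm, hji, hji.symm, hjk, hjk.symm] using h k i i j hki
    have e3 : A k i * A j j + A j i * A k j = 0 := by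
      simpa [minorSum, formEntry, hki, hki.symm, hji, hji.symm, hjk, hjk.symm] using h k j i j hjk.symm
    linear_combination (-A k i) * e1 + A i i * e3 + A j i * e2 + (- A j i * A i i * A k j) * h2
  have hdiag : ∀ i j : Fin 6, i ≠ j → A i i * A j j = 1 := by
    intro i j hij
    have e1 : A i i * A j j + A j i * A i j = 1 := by
      simpa [minorSum, formEntry, hij, hij.symm] using h i j i j hij
    rw [hoff j i hij.symm, zero_mul, add_zero] at e1
    exact e1
  have hsq : ∀ z : Q, z * z = 1 → z = 1 := by decide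
  ext a b
  rcases eq_or_ne a b with rfl | hab
  · obtain ⟨j, hji⟩ := exists_ne a
    obtain ⟨k, hki, hkj⟩ : ∃ k : Fin 6, k ≠ a ∧ k ≠ j := by revert a j; decide
    rw [Matrix.one_apply_eq]
    refine hsq _ ?_
    linear_combination (A a a * A a a) * (-(hdiag j k hkj.symm)) + (A a a * A k k) * hdiag a j hji.symm
      + hdiag a k hki.symm
  · rw [hoff a b hab, Matrix.one_apply_ne hab]

theorem fst_eq_one {g : GL (Fin 6) Q × GL I14 Q} (hg : g ∈ G2pairs) (h2 : g.2 = 1) : g.1 = 1 := by
  obtain ⟨hf, hs⟩ := compat_mem hg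
  set A : Matrix (Fin 6) (Fin 6) Q := (g.1 : Matrix (Fin 6) (Fin 6) Q)
  have hB : (g.2 : Matrix I14 I14 Q) = 1 := by rw [h2]; rfl
  have hk : ∀ k, Aᵀ * form (formPairs k) * A = form (formPairs k) := fun k => by
    rw [hf k, hB]; simp [Matrix.one_apply, ite_smul]
  have hel : ∀ a b : Fin 6, a ≠ b → Aᵀ * form [(a, b)] * A = form [(a, b)] := by
    intro a b hab
    obtain ⟨c₀, c₁, c₂, k, e | e⟩ := elem_span a b hab
    · rw [e]; simp only [Matrix.mul_add, Matrix.add_mul, Matrix.mul_smul, Matrix.smul_mul, hk, hs]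
    · rw [e, hk]
  refine Units.ext ?_
  refine eq_one_of_minors A fun a b i j hab => ?_
  rw [← form_congr A [(a, b)] (by simpa using hab), hel a b hab]
  rfl

/-- Entries detecting the coefficients of the invariant forms. -/
def detect : I14 → List (Fin 6 × Fin 6)
  | Sum.inl i => if i.val = 0 then [(2, 3)] else [(0, 5)]
  | Sum.inr u => formPairs (Sum.inr u)

theorem detect_spec : ∀ k l : I14,
    ((detect k).map fun p => formEntry (formPairs l) p.1 p.2).sum = if l = k then 1 else 0 := by
  decide +kernel

theorem detect_single : ∀ k : I14, ∃ p, detect k = [p] := by decide +kernel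

theorem snd_eq_one {g : GL (Fin 6) Q × GL I14 Q} (hg : g ∈ G2pairs) (h1 : g.1 = 1) : g.2 = 1 := by
  obtain ⟨hf, -⟩ := compat_mem hg
  refine Units.ext ?_
  ext k m
  obtain ⟨p, hp⟩ := detect_single m
  have h := congrFun (congrFun (hf k) p.1) p.2
  simp only [h1, Units.val_one, Matrix.transpose_one, Matrix.one_mul, Matrix.mul_one, Matrix.sum_apply,
    Matrix.smul_apply, smul_eq_mul, form, Matrix.of_apply] at h
  have hd : ∀ l, formEntry (formPairs l) p.1 p.2 = if l = m then 1 else 0 := fun l => by
    simpa [hp] using detect_spec m l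
  simp only [hd, mul_ite, mul_one, mul_zero, Finset.sum_ite_eq', Finset.mem_univ, if_true] at h
  rw [← h, Units.val_one, Matrix.one_apply]

/-- The projection on the natural module. -/
def natProj : G2pairs →* GL (Fin 6) Q := (MonoidHom.fst _ _).comp G2pairs.subtype

theorem natProj_injective : Function.Injective natProj :=
  (injective_iff_map_eq_one natProj).2 fun g hg =>
    Subtype.ext (Prod.ext hg (snd_eq_one g.2 hg))

/-- The projection on the adjoint module. -/
def adjProj : G2pairs →* GL I14 Q := (MonoidHom.snd _ _).comp G2pairs.subtype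

theorem adjProj_injective : Function.Injective adjProj :=
  (injective_iff_map_eq_one adjProj).2 fun g hg =>
    Subtype.ext (Prod.ext (fst_eq_one g.2 hg) hg)

theorem range_adjProj : adjProj.range = chevG2.group Q := by
  rw [adjProj, MonoidHom.range_comp, Subgroup.range_subtype, G2pairs, MonoidHom.map_closure, ← Set.range_comp,
    ChevalleyDatum.group]
  congr 1
  ext g
  constructor
  · rintro ⟨⟨r, t⟩, rfl⟩
    exact ⟨r, t, rfl⟩
  · rintro ⟨r, t, h⟩
    exact ⟨(r, t), Units.ext h.symm⟩

/-- The compatible pairs form a copy of the group of type G₂. -/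
noncomputable def pairsEquiv : G2pairs ≃* chevG2.group Q :=
  (MonoidHom.ofInjective adjProj_injective).trans (MulEquiv.subgroupCongr range_adjProj)

/-- The value of a word in the root elements. -/
def word (w : List (Fin chevG2.nroots × Q)) : G2pairs := (w.map fun p => gen p.1 p.2).prod

/-- The natural matrix of a word. -/
def wordMat (w : List (Fin chevG2.nroots × Q)) : Matrix (Fin 6) (Fin 6) Q := (w.map fun p => y p.1 p.2).prod

theorem natProj_word (w : List (Fin chevG2.nroots × Q)) :
    ((natProj (word w) : GL (Fin 6) Q) : Matrix (Fin 6) (Fin 6) Q) = wordMat w := by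
  induction w with
  | nil => rfl
  | cons p w ih =>
    rw [word, List.map_cons, List.prod_cons, map_mul, Units.val_mul, ← word, ih]
    rfl

end Cfsg.Agent.Recognition.G2Four
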